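import Cfsg.Agent.H879.ExtRank
import Cfsg.Agent.H879.SpNormalizer
set_option linter.all false

-- part: H879/ExtTwo
section
/-!
Overgroups of `Sp(V, φ)`: the field with two elements, and the conclusion.
-/

set_option autoImplicit false
set_option linter.unusedSectionVars false
set_option linter.unusedSimpArgs false

namespace Cfsg.Agent.H879.ExtField

open Module

variable {F K V : Type*} [Field F] [Field K] [Algebra F K] [AddCommGroup V]
  [Module F V] [Module K V] [IsScalarTower F K V]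
  {φ : V →ₗ[K] V →ₗ[K] K} {ℓ : K →ₗ[F] F} {M : Subgroup (V ≃ₗ[F] V)}

/-- The transvection over `F` with parameter one. -/
def ft (φ : V →ₗ[K] V →ₗ[K] K) (ℓ : K →ₗ[F] F) (y x : V) : V := x + ℓ (φ x y) • y

/-- The product of two transvections is in `M`. -/
def PP (φ : V →ₗ[K] V →ₗ[K] K) (ℓ : K →ₗ[F] F) (M : Subgroup (V ≃ₗ[F] V)) (x y : V) : Prop :=
  Has M (fun z => ft φ ℓ x (ft φ ℓ y z))

namespace Hyp

variable (h : Hyp φ ℓ M)
include h

theorem B_add (x y z : V) : ℓ (φ (x + y) z) = ℓ (φ x z) + ℓ (φ y z) := by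
  rw [φ.map_add, LinearMap.add_apply, map_add]

theorem B_add' (x y z : V) : ℓ (φ x (y + z)) = ℓ (φ x y) + ℓ (φ x z) := by
  rw [(φ x).map_add, map_add]

theorem B_smul (x y : V) (c : F) : ℓ (φ (c • x) y) = c * ℓ (φ x y) := by
  rw [← algebraMap_smul K c x, φ.map_smul, LinearMap.smul_apply, algebraMap_smul, map_smul,
      smul_eq_mul]

theorem B_smul' (x y : V) (c : F) : ℓ (φ x (c • y)) = c * ℓ (φ x y) := by
  rw [← algebraMap_smul K c y, (φ x).map_smul, algebraMap_smul, map_smul, smul_eq_mul]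

theorem B_self (x : V) : ℓ (φ x x) = 0 := by rw [h.alt, map_zero]

theorem B_skew (x y : V) : ℓ (φ x y) = - ℓ (φ y x) := by rw [h.skew, map_neg]

theorem ft_conj {t : V ≃ₗ[F] V} (ht : t ∈ M) (x z : V) :
    t (ft φ ℓ x z) = ft φ ℓ (t x) (t z) := by
  unfold ft
  rw [map_add, map_smul, h.pres t ht]

theorem PP_conj {t : V ≃ₗ[F] V} (ht : t ∈ M) {x y : V} (hxy : PP φ ℓ M x y) :
    PP φ ℓ M (t x) (t y) := by
  refine (hxy.conj ht).congr fun z => ?_
  simp only [h.ft_conj ht, apply_inv_apply]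

variable (hd : ∀ x : V, x + x = 0)
include hd

theorem ft_ft (x z : V) : ft φ ℓ x (ft φ ℓ x z) = z := by
  unfold ft
  rw [h.B_add, h.B_smul, h.B_self, mul_zero, add_zero, add_assoc, hd, add_zero]

theorem PP_symm {x y : V} (hxy : PP φ ℓ M x y) : PP φ ℓ M y x :=
  hxy.inv fun z => by rw [h.ft_ft hd, h.ft_ft hd]

theorem PP_trans {x y z : V} (hxy : PP φ ℓ M x y) (hyz : PP φ ℓ M y z) : PP φ ℓ M x z :=
  (hxy.comp hyz).congr fun u => by rw [h.ft_ft hd]

/-- The first pair. -/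
theorem PP_first {g : V ≃ₗ[F] V} (hg : g ∈ M) {a v : V}
    (hth : ∀ k : K, φ a (g (k • v)) = algebraMap F K (ℓ k)) {l m : K} (hl : ℓ l = 0)
    (hm : ℓ m = 1) : PP φ ℓ M (g (m • v)) (g (m • v) + l • a) ∧
      φ (g (m • v)) (g (m • v) + l • a) = - l := by
  have v1 : ℓ (φ (l • a) (g (m • v))) = 0 := by
    rw [φ.map_smul, LinearMap.smul_apply, hth, smul_eq_mul, smul_alg, hl, mul_zero]
  constructor
  · refine (h.has_R hg hth hl m).congr fun x => ?_
    rw [hm]
    generalize g (m • v) = w' at *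
    generalize l • a = w at *
    have hneg : ∀ x : V, -x = x := fun x => neg_eq_of_add_eq_zero_left (hd x)
    unfold ft
    rw [h.B_add, h.B_smul, h.B_add, v1, h.B_self, add_zero, mul_zero, add_zero, h.B_add',
      sub_eq_add_neg, sub_eq_add_neg, hneg, hneg, one_mul]
    have e : x + (ℓ (φ x w') + ℓ (φ x w)) • (w' + w) + ℓ (φ x w') • w'
        = (x + ℓ (φ x w') • w + ℓ (φ x w) • w' + ℓ (φ x w) • w)
          + (ℓ (φ x w') • w' + ℓ (φ x w') • w') := by module
    rw [e, hd, add_zero]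
  · rw [(φ _).map_add, h.alt, zero_add, h.skew, φ.map_smul, LinearMap.smul_apply, hth, hm, map_one,
      smul_eq_mul, mul_one]

/-- All pairs with a given product. -/
theorem PP_pairs {x y x' y' : V} (hxy : PP φ ℓ M x y) (h0 : φ x y ≠ 0)
    (h' : φ x' y' = φ x y) : PP φ ℓ M x' y' := by
  obtain ⟨t, ht, h1, h2⟩ := h.trans_pair h0 h'
  rw [← h1, ← h2]
  exact h.PP_conj ht hxy

/-- All pairs. -/
theorem PP_all {x y : V} (hxy : PP φ ℓ M x y) (h0 : φ x y ≠ 0) {u w : V} (hu : u ≠ 0)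
    (hw : w ≠ 0) : PP φ ℓ M u w := by
  have ind : ∀ u w : V, u ≠ 0 → w ≠ 0 → (∀ k : K, w ≠ k • u) → PP φ ℓ M u w := by
    intro u w hu hw hk
    have hk' : ∀ k : K, u ≠ k • w := by
      intro k hk1
      have hk0 : k ≠ 0 := by
        rintro rfl
        rw [zero_smul] at hk1
        exact hu hk1
      apply hk k⁻¹
      rw [hk1, smul_smul, inv_mul_cancel₀ hk0, one_smul]
    obtain ⟨a, ha, ha'⟩ := h.exists_sep hk
    obtain ⟨b, hb, hb'⟩ := h.exists_sep hk'
    have ha2 : φ u a = 0 := by rw [h.skew, ha, neg_zero]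
    have ha3 : φ w a ≠ 0 := by rw [h.skew, neg_ne_zero]; exact ha'
    have hb2 : φ w b = 0 := by rw [h.skew, hb, neg_zero]
    have hb3 : φ u b ≠ 0 := by rw [h.skew, neg_ne_zero]; exact hb'
    have h1 : PP φ ℓ M u ((φ x y * (φ w a)⁻¹) • a + (φ x y * (φ u b)⁻¹) • b) := by
      refine h.PP_pairs hd hxy h0 ?_
      rw [(φ u).map_add, (φ u).map_smul, (φ u).map_smul, ha2, smul_zero, zero_add, smul_eq_mul,
        mul_assoc, inv_mul_cancel₀ hb3, mul_one]
    have h2 : PP φ ℓ M w ((φ x y * (φ w a)⁻¹) • a + (φ x y * (φ u b)⁻¹) • b) := by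
      refine h.PP_pairs hd hxy h0 ?_
      rw [(φ w).map_add, (φ w).map_smul, (φ w).map_smul, hb2, smul_zero, add_zero, smul_eq_mul,
        mul_assoc, inv_mul_cancel₀ ha3, mul_one]
    exact h.PP_trans hd h1 (h.PP_symm hd h2)
  obtain ⟨z, h1, h2⟩ := h.exists_common hu hw
  have hz : z ≠ 0 := by rintro rfl; rw [map_zero] at h1; exact h1 rfl
  have h3 := ind u z hu hz (by
    rintro k rfl
    apply h1
    rw [(φ u).map_smul, h.alt, smul_zero])
  have h4 := ind w z hw hz (by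
    rintro k rfl
    apply h2
    rw [(φ w).map_smul, h.alt, smul_zero])
  exact h.PP_trans hd h3 (h.PP_symm hd h4)

/-- All transvections. -/
theorem ft_all {x y : V} (hxy : PP φ ℓ M x y) (h0 : φ x y ≠ 0) {e₁ e₂ e₃ : V}
    (h12 : ℓ (φ e₁ e₂) = 0) (h13 : ℓ (φ e₁ e₃) = 0) (h23 : ℓ (φ e₂ e₃) = 0)
    (n1 : e₁ ≠ 0) (n2 : e₂ ≠ 0) (n3 : e₃ ≠ 0) (n12 : e₁ + e₂ ≠ 0) (n13 : e₁ + e₃ ≠ 0)
    (n23 : e₂ + e₃ ≠ 0) (n123 : e₁ + e₂ + e₃ ≠ 0) (u : V) : Has M (ft φ ℓ u) := by
  have h21 : ℓ (φ e₂ e₁) = 0 := by rw [h.B_skew, h12, neg_zero]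
  have h31 : ℓ (φ e₃ e₁) = 0 := by rw [h.B_skew, h13, neg_zero]
  have h32 : ℓ (φ e₃ e₂) = 0 := by rw [h.B_skew, h23, neg_zero]
  have hs : Has M (ft φ ℓ (e₁ + e₂ + e₃)) := by
    have p1 : PP φ ℓ M e₁ e₂ := h.PP_all hd hxy h0 n1 n2
    have p2 : PP φ ℓ M e₃ (e₁ + e₂) := h.PP_all hd hxy h0 n3 n12
    have p3 : PP φ ℓ M (e₁ + e₃) (e₂ + e₃) := h.PP_all hd hxy h0 n13 n23
    refine (p1.comp (p2.comp p3)).congr fun z => ?_
    unfold ft
    simp only [h.B_add, h.B_add', h.B_smul, h.B_self, h12, h13, h23, h21, h31, h32, mul_zero,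
      add_zero]
    generalize ℓ (φ z e₁) = c₁
    generalize ℓ (φ z e₂) = c₂
    generalize ℓ (φ z e₃) = c₃
    have e : z + (c₂ + c₃) • (e₂ + e₃) + (c₁ + c₃) • (e₁ + e₃) + (c₁ + c₂) • (e₁ + e₂) + c₃ • e₃
        + c₂ • e₂ + c₁ • e₁ = (z + (c₁ + c₂ + c₃) • (e₁ + e₂ + e₃))
          + ((c₁ • e₁ + c₂ • e₂ + c₃ • e₃) + (c₁ • e₁ + c₂ • e₂ + c₃ • e₃)) := by module
    rw [e, hd, add_zero]
  by_cases hu : u = 0
  · subst hu
    refine has_id.congr fun z => ?_
    rw [ft, smul_zero, add_zero]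
  · refine ((h.PP_all hd hxy h0 hu n123).comp hs).congr fun z => ?_
    rw [h.ft_ft hd]

end Hyp

/-- The form over `K`. -/
theorem exists_phi [FiniteDimensional F K] (hl : ℓ ≠ 0) (B : V → V → F)
    (ha : ∀ x y z, B (x + y) z = B x z + B y z) (ha' : ∀ x y z, B x (y + z) = B x y + B x z)
    (hs : ∀ (c : F) x y, B (c • x) y = c * B x y)
    (hsa : ∀ (k : K) x y, B (k • x) y = B x (k • y)) (halt : ∀ (k : K) x, B (k • x) x = 0) :
    ∃ φ : V →ₗ[K] V →ₗ[K] K, (∀ x y, ℓ (φ x y) = B x y) ∧ ∀ x, φ x x = 0 := by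
  have hex : ∀ x y, ∃ s : K, ∀ k : K, B (k • x) y = ℓ (k * s) := by
    intro x y
    let ε : K →ₗ[F] F :=
      { toFun := fun k => B (k • x) y
        map_add' := fun k k' => by rw [add_smul, ha]
        map_smul' := fun c k => by rw [smul_assoc, hs, RingHom.id_apply, smul_eq_mul] }
    exact exists_rep hl ε
  choose s hs' using hex
  refine ⟨LinearMap.mk₂ K s ?_ ?_ ?_ ?_, fun x y => ?_, fun x => ?_⟩
  · intro x x' y
    apply ell_ext hl
    intro k
    rw [← hs', mul_add, map_add, ← hs', ← hs', smul_add, ha]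
  · intro c x y
    apply ell_ext hl
    intro k
    rw [← hs', smul_eq_mul, ← mul_assoc, ← hs', smul_smul]
  · intro x y y'
    apply ell_ext hl
    intro k
    rw [← hs', mul_add, map_add, ← hs', ← hs', ha']
  · intro c x y
    apply ell_ext hl
    intro k
    rw [← hs', smul_eq_mul, ← mul_assoc, ← hs', ← hsa, smul_smul, mul_comm]
  · have := hs' x y 1
    rw [one_smul, one_mul] at this
    exact this.symm
  · apply ell_ext hl
    intro k
    rw [mul_zero, map_zero]
    exact (hs' x x k).symm.trans (halt k x)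

/-- The dichotomy. -/
theorem dichotomy [FiniteDimensional F K] (hr : (finrank F K).Prime) (h : Hyp φ ℓ M)
    {e₁ e₂ e₃ : V}
    (h12 : ℓ (φ e₁ e₂) = 0) (h13 : ℓ (φ e₁ e₃) = 0) (h23 : ℓ (φ e₂ e₃) = 0)
    (n1 : e₁ ≠ 0) (n2 : e₂ ≠ 0) (n3 : e₃ ≠ 0) (n12 : e₁ + e₂ ≠ 0) (n13 : e₁ + e₃ ≠ 0)
    (n23 : e₂ + e₃ ≠ 0) (n123 : e₁ + e₂ + e₃ ≠ 0) :
    (∀ g ∈ M, ∀ k : K, ∃ k' : K, ∀ x, g (k • x) = k' • g x) ∨
      ∀ (y : V) (e : F), Has M (fun x => x + (e * ℓ (φ x y)) • y) := by
  by_cases hno : ∃ g' ∈ M, ∃ a' v' : V, ∀ k : K, φ a' (g' (k • v')) = algebraMap F K (ℓ k)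
  · right
    obtain ⟨g, hg, a, v, hth⟩ := hno
    -- an element of the kernel of ℓ
    obtain ⟨l, hl, hl0⟩ : ∃ l : K, ℓ l = 0 ∧ l ≠ 0 := by
      have h1 := LinearMap.finrank_range_add_finrank_ker ℓ
      have h2 : finrank F (LinearMap.range ℓ) ≤ 1 := by
        have := Submodule.finrank_le (LinearMap.range ℓ)
        rwa [finrank_self] at this
      have h3 := hr.two_le
      have h4 : LinearMap.ker ℓ ≠ ⊥ := by
        intro h5
        rw [h5, finrank_bot] at h1
        omega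
      obtain ⟨l, hl, hl0⟩ := (LinearMap.ker ℓ).ne_bot_iff.1 h4
      exact ⟨l, hl, hl0⟩
    by_cases hc : ∃ c : F, c * c ≠ c
    · obtain ⟨c, hc⟩ := hc
      exact fun y e => h.has_all hg hth hl hl0 hc y e
    · push Not at hc
      have hchar : (1 : F) + 1 = 0 := by
        by_contra h1
        have h2 := hc (1 + 1)
        have h3 : (1 + 1 : F) = 1 := mul_left_cancel₀ h1 (by rw [h2, mul_one])
        have h4 : (1 : F) = 0 := by
          have := congrArg (fun z => z - 1) h3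
          simpa using this
        exact one_ne_zero h4
      have hd : ∀ x : V, x + x = 0 := by
        intro x
        have : x + x = ((1 : F) + 1) • x := by rw [add_smul, one_smul]
        rw [this, hchar, zero_smul]
      obtain ⟨m, hm⟩ := h.exists_ell 1
      obtain ⟨p1, p2⟩ := h.PP_first hd hg hth hl hm
      have hft := h.ft_all hd p1 (by rw [p2, neg_ne_zero]; exact hl0) h12 h13 h23 n1 n2 n3 n12
        n13 n23 n123
      intro y e
      by_cases he : e = 0
      · subst he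
        refine has_id.congr fun z => ?_
        rw [zero_mul, zero_smul, add_zero]
      · have he1 : e = 1 := mul_left_cancel₀ he (by rw [hc, mul_one])
        subst he1
        refine (hft y).congr fun z => ?_
        rw [ft, one_mul]
  · left
    exact fun g hg k => h.semilinear_of_not hr hno hg k

end Cfsg.Agent.H879.ExtField
end

-- part: H879/ExtSymp
section
/-!
Overgroups in `spGL m F` of the extension field subgroup of symplectic type.
-/

set_option autoImplicit false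
set_option linter.unusedSectionVars false
set_option linter.unusedSimpArgs false

namespace Cfsg.Agent.H879.ExtField

open Module Matrix Cfsg.Agent.ClassicalGeometry.SympBasic Cfsg.Agent.H879

/-- The module structure given by an algebra of matrices. -/
@[reducible] def modOf {ι : Type} [Fintype ι] [DecidableEq ι] {F K : Type*} [Field F] [Field K]
    [Algebra F K] (ρ : K →ₐ[F] Matrix ι ι F) : Module K (ι → F) where
  smul k v := ρ k *ᵥ v
  one_smul v := by
    change ρ 1 *ᵥ v = v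
    rw [map_one, one_mulVec]
  mul_smul a b v := by
    change ρ (a * b) *ᵥ v = ρ a *ᵥ (ρ b *ᵥ v)
    rw [map_mul, mulVec_mulVec]
  smul_zero a := mulVec_zero _
  smul_add a x y := mulVec_add _ x y
  add_smul a b x := by
    change ρ (a + b) *ᵥ x = ρ a *ᵥ x + ρ b *ᵥ x
    rw [map_add, add_mulVec]
  zero_smul x := by
    change ρ 0 *ᵥ x = 0
    rw [map_zero, zero_mulVec]

/-- The alternative for overgroups. -/
theorem overgroup {F K : Type*} [Field F] [Field K] [Algebra F K] [FiniteDimensional F K]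
    (hr : (finrank F K).Prime) {m : ℕ} (hm : 3 ≤ m)
    (ρ : K →ₐ[F] Matrix (Fin m ⊕ Fin m) (Fin m ⊕ Fin m) F)
    (hsa : ∀ k x y, sympForm m F (ρ k *ᵥ x) y = sympForm m F x (ρ k *ᵥ y))
    (halt : ∀ k x, sympForm m F (ρ k *ᵥ x) x = 0)
    (M : Subgroup (GL (Fin m ⊕ Fin m) F))
    (hH : ∀ g ∈ spGL m F, (∀ k x, (g : Matrix _ _ F) *ᵥ (ρ k *ᵥ x) =
      ρ k *ᵥ ((g : Matrix _ _ F) *ᵥ x)) → g ∈ M) (hMS : M ≤ spGL m F) :
    (∀ g ∈ M, ∀ k, ∃ k', ∀ x, (g : Matrix _ _ F) *ᵥ (ρ k *ᵥ x) =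
      ρ k' *ᵥ ((g : Matrix _ _ F) *ᵥ x)) ∨ spGL m F ≤ M := by
  letI instM : Module K (Fin m ⊕ Fin m → F) := modOf ρ
  have hsmul : ∀ (k : K) (v : Fin m ⊕ Fin m → F), k • v = ρ k *ᵥ v := fun _ _ => rfl
  haveI instT : IsScalarTower F K (Fin m ⊕ Fin m → F) := by
    refine ⟨fun c k v => ?_⟩
    rw [hsmul, hsmul, map_smul, smul_mulVec]
  obtain ⟨ℓ, hℓ⟩ : ∃ ℓ : K →ₗ[F] F, ℓ ≠ 0 := exists_ne 0
  obtain ⟨φ, hφ, hφa⟩ := exists_phi (V := Fin m ⊕ Fin m → F) hℓ (sympForm m F)
    sympForm_add_left sympForm_add_right sympForm_smul_left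
    (fun k x y => by rw [hsmul, hsmul, hsa]) (fun k x => by rw [hsmul, halt])
  have hnd : ∀ x : Fin m ⊕ Fin m → F, x ≠ 0 → ∃ y, φ x y ≠ 0 := by
    intro x hx
    by_contra hcon
    push Not at hcon
    apply hx
    apply eq_zero_of_forall_sympForm_right
    intro w
    rw [← hφ, hcon, map_zero]
  have hskew : ∀ x y, φ x y = - φ y x := by
    intro x y
    have := hφa (x + y)
    simp only [map_add, LinearMap.add_apply, hφa, zero_add, add_zero] at this
    exact eq_neg_of_add_eq_zero_right this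
  have hiso : ∀ (v : Fin m ⊕ Fin m → F) (l : K) (x y : Fin m ⊕ Fin m → F),
      φ (kt φ v l x) (kt φ v l y) = φ x y := by
    intro v l x y
    unfold kt
    simp only [map_add, LinearMap.add_apply, map_smul, LinearMap.smul_apply, smul_eq_mul, hφa]
    rw [hskew v y]
    ring
  have hkk : ∀ (v : Fin m ⊕ Fin m → F) (l : K) (x : Fin m ⊕ Fin m → F),
      kt φ v l (kt φ v (-l) x) = x := by
    intro v l x
    unfold kt
    simp only [map_add, LinearMap.add_apply, map_smul, LinearMap.smul_apply, smul_eq_mul, hφa]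
    module
  have h : Hyp φ ℓ (M.map toEq.toMonoidHom) := by
    refine ⟨hφa, hnd, hℓ, ?_, ?_⟩
    · rintro _ ⟨g, hg, rfl⟩ x y
      rw [hφ, hφ]
      exact hMS hg x y
    · intro v l
      -- the transvection as an element of GL
      let T : (Fin m ⊕ Fin m → F) ≃ₗ[F] (Fin m ⊕ Fin m → F) :=
        { toFun := kt φ v l
          invFun := kt φ v (-l)
          map_add' := fun x y => by
            unfold kt
            simp only [map_add, LinearMap.add_apply]
            module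
          map_smul' := fun c x => by
            unfold kt
            rw [RingHom.id_apply, ← algebraMap_smul K c x, φ.map_smul, LinearMap.smul_apply,
              ← algebraMap_smul K c (x + _)]
            module
          left_inv := fun x => by
            have := hkk v (-l) x
            rwa [neg_neg] at this
          right_inv := fun x => hkk v l x }
      have hT : ∀ x, T x = kt φ v l x := fun _ => rfl
      rw [has_map_iff]
      have hTe : ∀ x, ((toEq.symm T : GL (Fin m ⊕ Fin m) F) : Matrix _ _ F) *ᵥ x = kt φ v l x := by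
        intro x
        rw [← toEq_apply, MulEquiv.apply_symm_apply, hT]
      refine ⟨toEq.symm T, hH _ ?_ ?_, hTe⟩
      · intro x y
        change sympForm m F (((toEq.symm T : GL (Fin m ⊕ Fin m) F) : Matrix _ _ F) *ᵥ x)
          (((toEq.symm T : GL (Fin m ⊕ Fin m) F) : Matrix _ _ F) *ᵥ y) = _
        rw [hTe, hTe, ← hφ, hiso, hφ]
      · intro k x
        rw [hTe, hTe, ← hsmul, ← hsmul, kt, kt, φ.map_smul, LinearMap.smul_apply]
        module
  -- three orthogonal vectors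
  let i₀ : Fin m := ⟨0, by omega⟩
  let i₁ : Fin m := ⟨1, by omega⟩
  let i₂ : Fin m := ⟨2, by omega⟩
  have h01 : i₀ ≠ i₁ := by simp [i₀, i₁, Fin.ext_iff]
  have h02 : i₀ ≠ i₂ := by simp [i₀, i₂, Fin.ext_iff]
  have h12 : i₁ ≠ i₂ := by simp [i₁, i₂, Fin.ext_iff]
  have horth : ∀ i j : Fin m, ℓ (φ (Pi.single (Sum.inl i) 1) (Pi.single (Sum.inl j) 1)) = 0 := by
    intro i j
    rw [hφ, sympForm_single_inl_left, Pi.single_eq_of_ne Sum.inr_ne_inl]
    simp
  rcases dichotomy hr h (e₁ := Pi.single (Sum.inl i₀) 1) (e₂ := Pi.single (Sum.inl i₁) 1)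
    (e₃ := Pi.single (Sum.inl i₂) 1) (horth _ _) (horth _ _) (horth _ _)
    (fun h0 => by simpa using congrFun h0 (Sum.inl i₀))
    (fun h0 => by simpa using congrFun h0 (Sum.inl i₁))
    (fun h0 => by simpa using congrFun h0 (Sum.inl i₂))
    (fun h0 => by simpa [h01, h02, h12] using congrFun h0 (Sum.inl i₀))
    (fun h0 => by simpa [h01, h02, h12] using congrFun h0 (Sum.inl i₀))
    (fun h0 => by simpa [h01, h02, h12] using congrFun h0 (Sum.inl i₁))
    (fun h0 => by simpa [h01, h02, h12] using congrFun h0 (Sum.inl i₀)) with h1 | h1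
  · left
    intro g hg k
    obtain ⟨k', hk'⟩ := h1 (toEq g) ⟨g, hg, rfl⟩ k
    exact ⟨k', hk'⟩
  · right
    apply spGL_le_of_has
    intro v c
    refine (h1 v c).congr fun x => ?_
    rw [hφ]

end Cfsg.Agent.H879.ExtField
end
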